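import Groth.Agent.LC.GorGlobal
import Groth.Agent.TFCurvLib.ExtOne

/-!
# Torsionless modules over Gorenstein rings of dimension at most one
-/

set_option autoImplicit false
universe u
open CategoryTheory CategoryTheory.Abelian IsLocalRing

namespace Groth.Agent.H1Refl

variable (S : Type u) [CommRing S]

theorem hasInjectiveDimensionLT_two [IsNoetherianRing S] (hG : LocCoh.IsGorensteinRing S)
    (hdim : ringKrullDim S ≤ 1) : HasInjectiveDimensionLT (ModuleCat.of S S) 2 := by
  refine Groth.Agent.CAlgGlobalDim.hasInjectiveDimensionLE_of_ext_cyclic 1 _ fun J => ?_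
  refine Module.subsingleton_of_localization_maximal
    (fun (m : Ideal S) _ => LocalizedModule m.primeCompl
      (Abelian.Ext (ModuleCat.of S (S ⧸ J)) (ModuleCat.of S S) (1 + 1)))
    (fun (m : Ideal S) _ => LocalizedModule.mkLinearMap m.primeCompl _) fun m hm => ?_
  haveI : m.IsPrime := hm.isPrime
  haveI : IsNoetherianRing (Localization.AtPrime m) :=
    IsLocalization.isNoetherianRing m.primeCompl _ inferInstance
  haveI := hG.isGorensteinLocalRing_localization m
  obtain ⟨d, hd, -, hv⟩ := LC.gorenstein_basic (R := Localization.AtPrime m)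
  rw [IsLocalization.AtPrime.ringKrullDim_eq_height m (Localization.AtPrime m)] at hd
  have hdD : d ≤ 1 := by
    have h1 := ((ringKrullDim_le_iff_height_le _).1 hdim) hm.isPrime
    rw [hd] at h1
    exact_mod_cast h1
  obtain ⟨e⟩ := LC.exists_extLoc_ring m.primeCompl (S ⧸ J) (1 + 1)
  haveI := hv (LocalizedModule m.primeCompl (S ⧸ J)) (1 + 1) (by omega)
  exact e.toEquiv.subsingleton

variable {S}

/-- Functionals on relations of a submodule of a free module extend. -/
theorem exists_extend [HasInjectiveDimensionLT (ModuleCat.of S S) 2] {n : ℕ}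
    {N K F : Type u} [AddCommGroup N] [Module S N] [AddCommGroup K] [Module S K] [AddCommGroup F] [Module S F]
    [Module.Free S F]
    (e : N →ₗ[S] (Fin n → S)) (he : Function.Injective e) (f : K →ₗ[S] F) (g : F →ₗ[S] N)
    (hf : Function.Injective f) (hg : Function.Surjective g) (hfg : Function.Exact f g)
    (φ : K →ₗ[S] S) : ∃ ψ : F →ₗ[S] S, ψ.comp f = φ := by
  have hS := TFCurvLib.presentation_shortExact e (LinearMap.range e).mkQ he
    (Submodule.mkQ_surjective _) (LinearMap.exact_map_mkQ_range e)
  haveI : Projective (ModuleCat.of S (Fin n → S)) :=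
    (IsProjective.iff_projective (R := S) (Fin n → S)).1 inferInstance
  have h1 : ∀ x : Ext (ModuleCat.of S N) (ModuleCat.of S S) 1, x = 0 := fun x => by
    obtain ⟨y, rfl⟩ := Ext.contravariant_sequence_exact₁ hS (ModuleCat.of S S) x
      (show 1 + 1 = 2 by omega)
      (Ext.eq_zero_of_hasInjectiveDimensionLT _ 2 (by omega))
    rw [y.eq_zero_of_projective, Ext.comp_zero]
  have hmem : φ ∈ LinearMap.ker (TFCurvLib.extDelta f g hf hg hfg S) := h1 _
  rw [TFCurvLib.extDelta_ker] at hmem
  exact hmem

theorem exists_embedding_of_injective_eval [IsNoetherianRing S] (M : Type u) [AddCommGroup M] [Module S M]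
    [Module.Finite S M] (h : Function.Injective (Module.Dual.eval S M)) :
    ∃ (n : ℕ) (e : M →ₗ[S] (Fin n → S)), Function.Injective e := by
  obtain ⟨m, π, hπ⟩ := Module.Finite.exists_fin' S (Module.Dual S M)
  · refine ⟨m, LinearMap.pi fun a => π (Pi.single a 1), ?_⟩
    rw [← LinearMap.ker_eq_bot, Submodule.eq_bot_iff]
    intro x hx
    refine h ?_
    rw [map_zero]
    ext ψ
    obtain ⟨c, rfl⟩ := hπ ψ
    have h2 : (Module.Dual.eval S M x).comp π = 0 :=
      LinearMap.pi_ext' fun i => LinearMap.ext_ring (congrFun (LinearMap.mem_ker.mp hx) i)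
    exact LinearMap.congr_fun h2 c

/-- Torsionless modules are reflexive. -/
theorem isReflexive_of_injective_eval [IsNoetherianRing S] (hG : LocCoh.IsGorensteinRing S)
    (hdim : ringKrullDim S ≤ 1) (M : Type u) [AddCommGroup M] [Module S M] [Module.Finite S M]
    (hinj : Function.Injective (Module.Dual.eval S M)) : Module.IsReflexive S M := by
  haveI := hasInjectiveDimensionLT_two S hG hdim
  refine ⟨hinj, fun y => ?_⟩
  obtain ⟨n, e, he⟩ := exists_embedding_of_injective_eval M hinj
  obtain ⟨m, π, hπ⟩ := Module.Finite.exists_fin' S M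
  let K := LinearMap.ker π
  -- the dual of `K` is cut out by the relations
  let dπ : Module.Dual S M →ₗ[S] Module.Dual S (Fin m → S) := π.dualMap
  let dι : Module.Dual S (Fin m → S) →ₗ[S] Module.Dual S K := K.subtype.dualMap
  have hdι : Function.Surjective dι := fun φ =>
    exists_extend e he K.subtype π Subtype.val_injective hπ (LinearMap.exact_subtype_ker_map π) φ
  have hex : Function.Exact dπ dι := by
    intro ψ
    constructor
    · intro hψ
      have hle : K ≤ LinearMap.ker ψ := fun x hx => LinearMap.congr_fun hψ ⟨x, hx⟩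
      obtain ⟨χ, hχ⟩ : ∃ χ : M →ₗ[S] S, χ.comp π = ψ :=
        ⟨(K.liftQ ψ hle).comp
          (π.quotKerEquivOfSurjective hπ).symm.toLinearMap, LinearMap.ext fun x => by
            show (K.liftQ ψ hle) ((π.quotKerEquivOfSurjective hπ).symm (π x)) = ψ x
            rw [show (π.quotKerEquivOfSurjective hπ).symm (π x) = Submodule.Quotient.mk x from
              (LinearEquiv.symm_apply_eq _).mpr rfl, Submodule.liftQ_apply]⟩
      exact ⟨χ, hχ⟩
    · rintro ⟨χ, rfl⟩
      refine LinearMap.ext fun x => ?_
      show χ (π x.1) = 0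
      rw [LinearMap.mem_ker.mp x.2, map_zero]
  have hdπ : Function.Injective dπ := LinearMap.dualMap_injective_of_surjective hπ
  -- the dual of `K` embeds in a free module
  obtain ⟨l, σ, hσ⟩ := Module.Finite.exists_fin' S K
  let e' : Module.Dual S K →ₗ[S] (Fin l → S) :=
    LinearMap.pi fun a => Module.Dual.eval S K (σ (Pi.single a 1))
  have he' : Function.Injective e' := fun a b hab => by
    refine LinearMap.ext fun x => ?_
    obtain ⟨c, rfl⟩ := hσ x
    have h2 : a.comp σ = b.comp σ := LinearMap.pi_ext' fun i => LinearMap.ext_ring (congrFun hab i)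
    exact LinearMap.congr_fun h2 c
  obtain ⟨z, hz⟩ := exists_extend e' he' dπ dι hdπ hdι hex y
  refine ⟨π ((Module.evalEquiv S (Fin m → S)).symm z), LinearMap.ext fun χ => ?_⟩
  rw [← hz]
  show χ (π _) = z (dπ χ)
  conv_rhs => rw [← (Module.evalEquiv S (Fin m → S)).apply_symm_apply z]
  rfl

end Groth.Agent.H1Refl
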