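import Mathlib

/-!
# Torsionless modules over reduced rings, and modules with scalar endomorphisms
-/

set_option autoImplicit false
universe u

namespace Groth.Agent.H1Refl

variable {S : Type u} [CommRing S] [IsNoetherianRing S] {M : Type u} [AddCommGroup M] [Module S M] [Module.Finite S M]

theorem isField_localization [IsReduced S] {P : Ideal S} (hP : P ∈ minimalPrimes S) [P.IsPrime] :
    IsField (Localization.AtPrime P) := by
  refine IsLocalRing.isField_iff_maximalIdeal_eq.mpr (eq_bot_iff.mpr fun x hx => ?_)
  refine (IsReduced.eq_zero x ?_ : x = 0)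
  rw [← mem_nilradical, nilradical_eq_sInf, Ideal.mem_sInf]
  intro p hp
  haveI : p.IsPrime := hp
  haveI := IsLocalization.subsingleton_primeSpectrum_of_mem_minimalPrimes P hP (Localization.AtPrime P)
  have h := congrArg PrimeSpectrum.asIdeal (Subsingleton.elim (⟨p, ‹_›⟩ : PrimeSpectrum (Localization.AtPrime P))
    ⟨IsLocalRing.maximalIdeal _, inferInstance⟩)
  simp only at h
  rwa [h]

/-- An element not killed at some minimal prime is detected by a functional. -/
theorem exists_functional [IsReduced S] {P : Ideal S} (hP : P ∈ minimalPrimes S) [P.IsPrime] {m : M}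
    (hm : ∀ u : S, u • m = 0 → u ∈ P) : ∃ φ : M →ₗ[S] S, φ m ≠ 0 := by
  classical
  letI := (isField_localization hP).toField
  let g := LocalizedModule.mkLinearMap P.primeCompl M
  have hm0 : g m ≠ 0 := fun h0 => by
    obtain ⟨u, hu⟩ := (IsLocalizedModule.eq_zero_iff P.primeCompl g).mp h0
    exact u.2 (hm u hu)
  obtain ⟨ψ, hψ⟩ : ∃ ψ : Module.Dual (Localization.AtPrime P) (LocalizedModule P.primeCompl M), ψ (g m) ≠ 0 := by
    by_contra! h
    exact hm0 ((Module.forall_dual_apply_eq_zero_iff (Localization.AtPrime P) _).mp h)
  obtain ⟨h, s, hs⟩ := Module.FinitePresentation.exists_lift_of_isLocalizedModule (S := P.primeCompl)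
    (Algebra.linearMap S (Localization.AtPrime P)) ((ψ.restrictScalars S).comp g)
    (h := Module.finitePresentation_of_finite S M)
  refine ⟨h, fun h0 => hψ ?_⟩
  have h1 := LinearMap.congr_fun hs m
  simp only [LinearMap.comp_apply, Algebra.linearMap_apply, h0, map_zero, LinearMap.smul_apply,
    LinearMap.restrictScalars_apply, Submonoid.smul_def, Algebra.smul_def] at h1
  exact ((IsLocalization.map_units (Localization.AtPrime P) s).mul_right_eq_zero).mp h1.symm

end Groth.Agent.H1Refl
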